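import Cfsg.Agent.H508.KB.Defs
import Cfsg.Agent.H296.KB.Rank
import Cfsg.Agent.H735.S4822.Kap
import Cfsg.Agent.H261.KB.Ker
import Cfsg.Agent.H96.KB.Hull
import Cfsg.Agent.H736.S4790.Cyc
import Cfsg.Agent.H1.KB.Arith
import Cfsg.Agent.H734.KB.Crit

/-!
# S4822, C6 `good_of_cyc`: cyclic Sylow subgroups (helper736)
-/

set_option autoImplicit false
set_option linter.unusedVariables false

open Cfsg Subgroup

namespace Cfsg.Agent.H736.KB

open Cfsg.Agent.H508.KB

universe u

variable {p : ℕ} [Fact p.Prime]

/-- Burnside: in a nonabelian simple group the normalizer of a cyclic Sylow subgroup does not centralize it -/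
theorem not_norm_le {S : Type u} [Group S] [Finite S] (hs : IsSimpleGroup S) (hna : ¬ IsMulCommutative S)
    (hp : p ∣ Nat.card S) (P : Sylow p S) (hP : IsCyclic (P : Subgroup S)) :
    ¬ normalizer ((P : Subgroup S) : Set S) ≤ centralizer ((P : Subgroup S) : Set S) := by
  intro hle
  have h1 := MonoidHom.ker_transferSylow_isComplement' P hle
  rcases hs.eq_bot_or_eq_top_of_normal (MonoidHom.transferSylow P hle).ker inferInstance with h2 | h2
  · rw [h2, isComplement'_bot_left] at h1
    apply hna
    have hc : IsCyclic (⊤ : Subgroup S) := h1 ▸ hP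
    have hc' := hc.commGroup
    refine ⟨⟨fun a b => ?_⟩⟩
    have h3 := (IsCyclic.commGroup (α := (⊤ : Subgroup S))).mul_comm ⟨a, mem_top a⟩ ⟨b, mem_top b⟩
    exact congrArg Subtype.val h3
  · rw [h2, isComplement'_top_left] at h1
    have h3 := P.pow_dvd_card_of_pow_dvd_card (n := 1) (by rwa [pow_one])
    rw [pow_one, h1, card_bot] at h3
    exact (Fact.out : p.Prime).one_lt.ne' (Nat.dvd_one.1 h3)

variable {M : Ideal AlgInt} {A : Type u} [Group A] [Finite A] (S : Subgroup A) [S.Normal]

/-- C6: for cyclic Sylow subgroups -/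
theorem good_of_cyc (h5 : 5 ≤ p) (hM : IsPModular p M) (hcop : ¬ p ∣ S.index) (hs : IsSimpleGroup S)
    (hna : ¬ IsMulCommutative S) (hp : p ∣ Nat.card S) (P : Sylow p S) (hP : IsCyclic (P : Subgroup S)) :
    Good M S p := by
  classical
  have hpp : p.Prime := Fact.out
  set Q₀ : Subgroup A := (P : Subgroup S).map S.subtype with hQ₀
  have hcardS : Nat.card Q₀ = Nat.card (P : Subgroup S) :=
    (Nat.card_congr ((P : Subgroup S).equivMapOfInjective _ S.subtype_injective).toEquiv).symm
  have hfac : (Nat.card A).factorization p = (Nat.card S).factorization p := by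
    rw [← S.card_mul_index, Nat.factorization_mul Nat.card_pos.ne' S.index_ne_zero_of_finite, Finsupp.add_apply,
      Nat.factorization_eq_zero_of_not_dvd hcop, add_zero]
  have hcard : Nat.card Q₀ = p ^ (Nat.card A).factorization p := by
    rw [hcardS, hfac]
    exact P.card_eq_multiplicity
  obtain ⟨Q, hQ⟩ : ∃ Q : Sylow p A, (Q : Subgroup A) = Q₀ := ⟨Sylow.ofCard Q₀ hcard, rfl⟩
  have hQc : IsCyclic (Q : Subgroup A) := by
    rw [hQ]
    exact isCyclic_of_surjective ((P : Subgroup S).equivMapOfInjective _ S.subtype_injective).toMonoidHom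
      ((P : Subgroup S).equivMapOfInjective _ S.subtype_injective).surjective
  have hd : p ∣ Nat.card A := hp.trans (card_subgroup_dvd_card S)
  set N := normalizer ((Q : Subgroup A) : Set A) with hN
  set C := centralizer ((Q : Subgroup A) : Set A) with hC
  set e := C.relIndex N with he
  have hrank : blockRank p (principalBlock M A) = e := H734.KB.rank_cyclic hM Q hQc hd
  -- the classes of elements of order `p`
  let R := {c : ConjClasses A // ∃ g : A, ConjClasses.mk g = c ∧ orderOf g = p}
  have hfR : Fintype R := Fintype.ofFinite R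
  have h1 : p - 1 ≤ e * Nat.card R := H736.S4790.card_le_mul Q hQc hd
  let rep : R → A := fun c => c.2.choose
  have hrep : ∀ c : R, ConjClasses.mk (rep c) = c.1 ∧ orderOf (rep c) = p := fun c => c.2.choose_spec
  have hinj : Function.Injective rep := by
    intro c d hcd
    apply Subtype.ext
    rw [← (hrep c).1, ← (hrep d).1, hcd]
  let X₁ : Finset A := Finset.univ.image rep
  have hX₁ : X₁.card = Nat.card R := by
    rw [Finset.card_image_of_injective _ hinj, Finset.card_univ, Nat.card_eq_fintype_card]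
  have hone : (1 : A) ∉ X₁ := by
    intro h
    obtain ⟨c, -, hc⟩ := Finset.mem_image.1 h
    have h2 := (hrep c).2
    rw [hc, orderOf_one] at h2
    exact hpp.one_lt.ne h2
  let X : Finset A := insert 1 X₁
  have hX : X.card = Nat.card R + 1 := by
    rw [Finset.card_insert_of_notMem hone, hX₁]
  have hXord : ∀ x ∈ X, ∃ k, orderOf x = p ^ k := by
    intro x hx
    rcases Finset.mem_insert.1 hx with rfl | hx
    · exact ⟨0, by rw [orderOf_one, pow_zero]⟩
    · obtain ⟨c, -, rfl⟩ := Finset.mem_image.1 hx
      exact ⟨1, by rw [(hrep c).2, pow_one]⟩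
  have hXcl : ∀ x ∈ X, ∀ y ∈ X, IsConj x y → x = y := by
    intro x hx y hy hxy
    rcases Finset.mem_insert.1 hx with rfl | hx
    · exact (isConj_one_right.1 hxy).symm
    · rcases Finset.mem_insert.1 hy with rfl | hy
      · exact isConj_one_left.1 hxy
      · obtain ⟨c, -, rfl⟩ := Finset.mem_image.1 hx
        obtain ⟨d, -, rfl⟩ := Finset.mem_image.1 hy
        congr 1
        apply Subtype.ext
        rw [← (hrep c).1, ← (hrep d).1]
        exact ConjClasses.mk_eq_mk_iff_isConj.2 hxy
  have hXS : ∀ x ∈ X, x ∈ S := by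
    intro x hx
    obtain ⟨k, hk⟩ := hXord x hx
    rw [← QuotientGroup.eq_one_iff]
    have h2 : orderOf (QuotientGroup.mk x : A ⧸ S) ∣ p ^ k := by
      rw [← hk]
      exact orderOf_map_dvd (QuotientGroup.mk' S) x
    have h3 : orderOf (QuotientGroup.mk x : A ⧸ S) ∣ S.index := orderOf_dvd_natCard _
    have h4 : (p ^ k).Coprime S.index := Nat.Coprime.pow_left _ ((Nat.Prime.coprime_iff_not_dvd hpp).2 hcop)
    exact orderOf_eq_one_iff.1 (Nat.eq_one_of_dvd_coprimes h4 h2 h3)
  -- `e + r ≤ k(B₀(A))`
  have h2 : e + Nat.card R ≤ kB M A := by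
    refine le_trans ?_ (H296.KB.sum_le_kB hM X hXord hXcl)
    rw [Finset.sum_insert hone]
    refine Nat.add_le_add ?_ ?_
    · rw [← hrank]
      refine H734.KB.rank_surj hM (centralizer ({(1 : A)} : Set A)).subtype ?_
      intro a
      exact ⟨⟨a, mem_centralizer_singleton_iff.2 (by rw [mul_one, one_mul])⟩, rfl⟩
    · rw [← hX₁, Finset.card_eq_sum_ones]
      exact Finset.sum_le_sum fun x _ => H296.KB.one_le_rank hM
  -- `r + 2 ≤ κ`
  have h3 : Nat.card R + 2 ≤ kap M S := by
    have h4 := H735.S4822.card_le_kap S hM hcop hs hna hp X (fun x hx => ⟨hXS x hx, hXord x hx⟩) hXcl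
    rw [hX] at h4
    exact h4
  -- `2 f ≤ e`
  have h4 : 2 * ker M S ≤ e := by
    obtain ⟨hH, hHn⟩ := H96.KB.Hull.hull_eq S hcop P
    set H := hull p S with hHdef
    have hker : ker M S ≤ H.index := by
      rw [H261.KB.Ker.ker_eq S hM hcop]
      exact Nat.card_le_card_of_surjective ConjClasses.mk ConjClasses.mk_surjective
    have hCH : C ≤ H := by
      rw [hH, hC, hQ]
      exact le_sup_right
    have hSH : S ≤ H := by
      rw [hH]
      exact le_sup_left
    have hCN : C ≤ N := centralizer_le_normalizer _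
    have hfr : N ⊔ S = ⊤ := by
      have := Sylow.normalizer_sup_eq_top P
      rw [hN, hQ]
      exact this
    have hNH : N ⊔ H = ⊤ := by
      rw [eq_top_iff, ← hfr]
      exact sup_le_sup_left hSH N
    have h5 : H.relIndex N = H.index := by
      rw [← relIndex_top_right H, ← hNH, relIndex_sup_right]
    have h6 : C.relIndex (H ⊓ N) * (H ⊓ N).relIndex N = e :=
      relIndex_mul_relIndex _ _ _ (le_inf hCH hCN) inf_le_right
    rw [inf_relIndex_right, h5] at h6
    have h7 : 2 ≤ C.relIndex (H ⊓ N) := by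
      have h8 : C.relIndex (H ⊓ N) ≠ 0 := index_ne_zero_of_finite
      have h9 : C.relIndex (H ⊓ N) ≠ 1 := by
        intro h10
        rw [relIndex_eq_one] at h10
        apply not_norm_le hs hna hp P hP
        intro x hx
        have hxN : (x : A) ∈ N := by
          rw [hN, hQ, mem_normalizer_iff]
          intro y
          constructor
          · rintro ⟨z, hz, rfl⟩
            exact ⟨x * z * x⁻¹, (mem_normalizer_iff.1 hx z).1 hz, rfl⟩
          · rintro ⟨z, hz, hzy⟩
            have hyS : y ∈ S := by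
              have h11 : y = (x : A)⁻¹ * (S.subtype z) * x := by rw [hzy]; group
              rw [h11]
              exact S.mul_mem (S.mul_mem (S.inv_mem x.2) z.2) x.2
            refine ⟨⟨y, hyS⟩, (mem_normalizer_iff.1 hx _).2 ?_, rfl⟩
            have h11 : x * ⟨y, hyS⟩ * x⁻¹ = z := Subtype.ext hzy.symm
            rw [h11]
            exact hz
        have hxC : (x : A) ∈ C := h10 (mem_inf.2 ⟨hSH x.2, hxN⟩)
        rw [hC, hQ] at hxC
        rw [mem_centralizer_iff]
        intro y hy
        exact Subtype.ext (mem_centralizer_iff.1 hxC (y : A) ⟨y, hy, rfl⟩)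
      omega
    calc 2 * ker M S ≤ C.relIndex (H ⊓ N) * H.index := Nat.mul_le_mul h7 hker
      _ = e := h6
  exact H1.KB.ar4 h1 h2 h4 h3

end Cfsg.Agent.H736.KB
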